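import Cfsg.Agent.TAB.Ly.Five0
import Cfsg.Agent.H51.Rad3.Ly

/-!
# The Lyons group : computations in a Sylow 3-subgroup (helper57, TAB)

* `cent_nine` : `3 ^ 4` does not divide the order of the centralizer of an element of order 9;
* `exists_fuse` : commuting elements `a` (of type `3A`) and `y` with `y ~ y a ~ y a ^ 2`.
-/

set_option autoImplicit false
set_option maxRecDepth 100000

namespace Cfsg.Agent.TAB.Ly

open Cfsg Subgroup Cfsg.Agent.H51.Rad3.Ly Cfsg.Agent.H51.Rad3.Vec Cfsg.Agent.H582.Ly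
open Cfsg.Agent.H51.LyThree (e u v g mem_e e1_ne u_ne_one)

/-- the element with the code `n` -/
def ev (n : ℕ) : Spor.Ly := el e 5 (vec n)

/-- the sum of codes -/
def ad (m n : ℕ) : ℕ := code fun k => vec m k + vec n k

/-- the elements of `U` -/
def bb (i j : ℕ) : Spor.Ly := u ^ i * v ^ j

/-- the action of `bb i j` -/
def sb (i j n : ℕ) : ℕ := (stepM tv)^[j] ((stepM tu)^[i] n)

/-- the commutator -/
def dd (i j n : ℕ) : ℕ := ad (sb i j n) (ad n n)

/-- the cube -/
def nr (i j n : ℕ) : ℕ := ad (ad (sb i j (sb i j n)) (sb i j n)) n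

/-- data -/
def dT : List ℕ :=
  [0x0,
  0x40800f0ebef77787cd5d0d45c5d613a3e369293971f231bbab5b9040800f0ebef77787cd5d0d45c5d613a3e369293971f231bbab5b9040800f0ebef77787cd5d0d45c5d613a3e369293971f231bbab5b9bab5b99293971f231b77787c040800f0ebef3a3e36d5d0d45c5d61bab5b99293971f231b77787c040800f0ebef3a3e36d5d0d45c5d61bab5b99293971f231b77787c040800f0ebef3a3e36d5d0d45c5d615c5d613a3e36d5d0d41f231bbab5b9929397f0ebef77787c0408005c5d613a3e36d5d0d41f231bbab5b9929397f0ebef77787c0408005c5d613a3e36d5d0d41f231bbab5b9929397f0ebef77787c040800,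
  0x77eb0078ef047cf00893b91f97ba2392b51b61d53e5cd0365dd43a77eb0078ef047cf00893b91f97ba2392b51b61d53e5cd0365dd43a77eb0078ef047cf00893b91f97ba2392b51b61d53e5cd0365dd43a5dd43a61d53e5cd0367cf00877eb0078ef0492b51b93b91f97ba235dd43a61d53e5cd0367cf00877eb0078ef0492b51b93b91f97ba235dd43a61d53e5cd0367cf00877eb0078ef0492b51b93b91f97ba2397ba2392b51b93b91f5cd0365dd43a61d53e78ef047cf00877eb0097ba2392b51b93b91f5cd0365dd43a61d53e78ef047cf00877eb0097ba2392b51b93b91f5cd0365dd43a61d53e78ef047cf00877eb00,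
  0xa1ca005dda346dba441b6be54f78a40e88d5af3686bf1993f02952a1ca005dda346dba441b6be54f78a40e88d5af3686bf1993f02952a1ca005dda346dba441b6be54f78a40e88d5af3686bf1993f02952f02952af3686bf19936dba44a1ca005dda340e88d51b6be54f78a4f02952af3686bf19936dba44a1ca005dda340e88d51b6be54f78a4f02952af3686bf19936dba44a1ca005dda340e88d51b6be54f78a44f78a40e88d51b6be5bf1993f02952af36865dda346dba44a1ca004f78a40e88d51b6be5bf1993f02952af36865dda346dba44a1ca004f78a40e88d51b6be5bf1993f02952af36865dda346dba44a1ca00,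
  0x453000362a154b1b0ff0c0abe1d5a5dbc6ba8d786399725d937e57453000362a154b1b0ff0c0abe1d5a5dbc6ba8d786399725d937e57453000362a154b1b0ff0c0abe1d5a5dbc6ba8d786399725d937e57937e578d786399725d4b1b0f453000362a15dbc6baf0c0abe1d5a5937e578d786399725d4b1b0f453000362a15dbc6baf0c0abe1d5a5937e578d786399725d4b1b0f453000362a15dbc6baf0c0abe1d5a5e1d5a5dbc6baf0c0ab99725d937e578d7863362a154b1b0f453000e1d5a5dbc6baf0c0ab99725d937e578d7863362a154b1b0f453000e1d5a5dbc6baf0c0ab99725d937e578d7863362a154b1b0f453000,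
  0xa1400d5c4ce8c939d5d67562f1b25dfe9f0b3baa982717836404a0a1400d5c4ce8c939d5d67562f1b25dfe9f0b3baa982717836404a0a1400d5c4ce8c939d5d67562f1b25dfe9f0b3baa982717836404a36404ab3baa98271788c939d0a1400d5c4cedfe9f05d67562f1b2536404ab3baa98271788c939d0a1400d5c4cedfe9f05d67562f1b2536404ab3baa98271788c939d0a1400d5c4cedfe9f05d67562f1b252f1b25dfe9f05d675682717836404ab3baa9d5c4ce8c939d0a14002f1b25dfe9f05d675682717836404ab3baa9d5c4ce8c939d0a14002f1b25dfe9f05d675682717836404ab3baa9d5c4ce8c939d0a1400,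
  0x52a400ba196b0e5daf3688daa1f04fe54493bf1b6d3486d578ca2952a400ba196b0e5daf3688daa1f04fe54493bf1b6d3486d578ca2952a400ba196b0e5daf3688daa1f04fe54493bf1b6d3486d578ca2978ca29bf1b6d3486d50e5daf52a400ba196be544933688daa1f04f78ca29bf1b6d3486d50e5daf52a400ba196be544933688daa1f04f78ca29bf1b6d3486d50e5daf52a400ba196be544933688daa1f04fa1f04fe544933688da3486d578ca29bf1b6dba196b0e5daf52a400a1f04fe544933688da3486d578ca29bf1b6dba196b0e5daf52a400a1f04fe544933688da3486d578ca29bf1b6dba196b0e5daf52a400,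
  0xb36700934adf25d571ba560a9d36e92fc478a95d148c40f01bce82b36700934adf25d571ba560a9d36e92fc478a95d148c40f01bce82b36700934adf25d571ba560a9d36e92fc478a95d148c40f01bce821bce82a95d148c40f025d571b36700934adf2fc478ba560a9d36e91bce82a95d148c40f025d571b36700934adf2fc478ba560a9d36e91bce82a95d148c40f025d571b36700934adf2fc478ba560a9d36e99d36e92fc478ba560a8c40f01bce82a95d14934adf25d571b367009d36e92fc478ba560a8c40f01bce82a95d14934adf25d571b367009d36e92fc478ba560a8c40f01bce82a95d14934adf25d571b36700,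
  0x72db001b8da5c0365778e10f2a93abc6455d7ef0153099bad54b6372db001b8da5c0365778e10f2a93abc6455d7ef0153099bad54b6372db001b8da5c0365778e10f2a93abc6455d7ef0153099bad54b63d54b637ef0153099bac0365772db001b8da5c6455d78e10f2a93abd54b637ef0153099bac0365772db001b8da5c6455d78e10f2a93abd54b637ef0153099bac0365772db001b8da5c6455d78e10f2a93ab2a93abc6455d78e10f3099bad54b637ef0151b8da5c0365772db002a93abc6455d78e10f3099bad54b637ef0151b8da5c0365772db002a93abc6455d78e10f3099bad54b637ef0151b8da5c0365772db00]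

/-- data -/
def zT : List ℕ :=
  [0x7ffffffffffffffffffffffffffffffffffffffffffffffffffffffffffff,
  0x18a228c31445186288a32228c31445186288a30c48c31445186288a30c511,
  0x18a228c31445186288a32228c31445186288a30c48c31445186288a30c511,
  0x18a228c31445186288a32228c31445186288a30c48c31445186288a30c511,
  0x18a228c31445186288a32228c31445186288a30c48c31445186288a30c511,
  0x18a228c31445186288a32228c31445186288a30c48c31445186288a30c511,
  0x18a228c31445186288a32228c31445186288a30c48c31445186288a30c511,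
  0x18a228c31445186288a32228c31445186288a30c48c31445186288a30c511,
  0x18a228c31445186288a32228c31445186288a30c48c31445186288a30c511]

/-- data -/
def mT : List ℕ :=
  [0x1,
  0x188000031000006200000008c000011800002300000004440000888000111,
  0x188000031000006200000008c000011800002300000004440000888000111,
  0x100200420040084008012000801400100280020048010005002000a004001,
  0x1000208200041040008200208200041040008208008200041040008208001,
  0x1020080204010040802002008100401020080204004010040802008100401,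
  0x100200420040084008012000801400100280020048010005002000a004001,
  0x1020080204010040802002008100401020080204004010040802008100401,
  0x1000208200041040008200208200041040008208008200041040008208001]

/-- the table of `dd` -/
def dt (i j n : ℕ) : ℕ := Nat.shiftRight (dT.getD (3 * i + j) 0) (8 * n) % 256

theorem chk_dd : ∀ i < 3, ∀ j < 3, ∀ n < 243, dd i j n = dt i j n := by decide +kernel

theorem chk_nr : ∀ i < 3, ∀ j < 3, ∀ n < 243, (zT.getD (3 * i + j) 0).testBit n = true → nr i j n = 0 := by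
  decide +kernel

theorem chk_im : ∀ i < 3, ∀ j < 3, ∀ n < 243, (mT.getD (3 * i + j) 0).testBit (dt i j n) = true := by decide +kernel

set_option synthInstance.maxSize 1000 in
theorem chk_main : ∀ i < 3, ∀ j < 3, ∀ i' < 3, ∀ j' < 3, (∃ k < 3, i' = k * i % 3 ∧ j' = k * j % 3) ∨
    ∀ n < 243, (mT.getD (3 * i + j) 0).testBit (dt i' j' n) = true → (zT.getD (3 * i + j) 0).testBit n = true := by
  decide +kernel

theorem chk_fix : ∀ i < 3, ∀ j < 3, (i = 0 ∧ j = 0) ∨
    (((Finset.range 243).filter fun n => dt i j n = 0).card ≤ 9 ∧ dt i j 1 ≠ 0) := by decide +kernel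

theorem chk_zero : ∀ n < 243, dt 0 0 n = 0 := by decide +kernel

theorem chk_cen : ∀ n < 243, dt 1 0 n = 0 → ∃ m < 243, dt 1 0 m = n := by decide +kernel

theorem e3 : ∀ i < 5, e i ^ 3 = 1 := fun i _ => e_cube i

theorem ev_mul (m n : ℕ) : ev m * ev n = ev (ad m n) := by
  rw [ev, ev, el_mul e_comm le_rfl, ev, ad, el_vec_code e3]

theorem ev_mem (n : ℕ) : ev n ∈ E := by
  rw [ev, el_five]
  have m : ∀ k, k < 5 → ∀ n : ℕ, e k ^ n ∈ E := fun k hk n => pow_mem (mem_e k hk) n
  exact mul_mem (mul_mem (mul_mem (mul_mem (m 0 (by norm_num) _) (m 1 (by norm_num) _)) (m 2 (by norm_num) _))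
    (m 3 (by norm_num) _)) (m 4 (by norm_num) _)

theorem mem_E {x : Spor.Ly} (hx : x ∈ E) : ∃ n < 243, x = ev n := by
  obtain ⟨a, rfl⟩ := H51.Rad3.Vec.mem_closure e_comm rfl e3 hx
  exact ⟨code a, code_lt a, (el_vec_code e3 a).symm⟩

theorem ev_zero : ev 0 = 1 := by simp [ev, el_five, vec]

theorem ev_inj {m n : ℕ} (hm : m < 243) (hn : n < 243) (h : ev m = ev n) : m = n := by
  have := fin
  have h2 : 3 ^ 5 ∣ Nat.card E := by
    refine H51.LyThreeGrp.pow_five_dvd E_props.1 g11 (fun x hx => (mem_normalizer_iff.1 g_norm x).1 hx) (y := e 0)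
      (mem_e 0 (by norm_num)) fun h => e1_ne ?_
    rw [e_succ, mul_assoc, ← h, inv_mul_cancel_left]
  let f : Fin 243 → E := fun n => ⟨ev n, ev_mem n⟩
  have h3 : Function.Surjective f := fun x => by
    obtain ⟨n, h4, h5⟩ := mem_E x.2
    exact ⟨⟨n, h4⟩, Subtype.ext h5.symm⟩
  have h4 := (Nat.bijective_iff_surjective_and_card f).2 ⟨h3, le_antisymm
    (by rw [Nat.card_fin]; exact Nat.le_of_dvd Nat.card_pos h2) (Nat.card_le_card_of_surjective f h3)⟩
  exact congrArg Fin.val (h4.1 (a₁ := ⟨m, hm⟩) (a₂ := ⟨n, hn⟩) (Subtype.ext h))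

theorem conj_pow_ev {c : Spor.Ly} {l : List ℕ} (h : ∀ k < 5, c⁻¹ * e k * c = el e 5 (mtx l k)) (i n : ℕ) :
    (c ^ i)⁻¹ * ev n * c ^ i = ev ((stepM l)^[i] n) := by
  induction i with
  | zero => simp
  | succ i ih =>
    rw [Function.iterate_succ_apply', ev, ev, ← conj_vec e_comm e3 h, ← ev, ← ev, ← ih, pow_succ]
    group

theorem conj_ev (i j n : ℕ) : (bb i j)⁻¹ * ev n * bb i j = ev (sb i j n) := by
  rw [sb, ← conj_pow_ev act_v, ← conj_pow_ev act_u, bb]
  group

theorem bb_mem (i j : ℕ) : bb i j ∈ U :=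
  mul_mem (pow_mem (subset_closure (by simp)) i) (pow_mem (subset_closure (by simp)) j)

theorem bb_pow (i j k : ℕ) : bb i j ^ k = bb (k * i % 3) (k * j % 3) := by
  rw [bb, bb, ((show Commute u v from uv).pow_pow _ _).mul_pow, ← pow_mul, ← pow_mul, pow_eq_pow_mod _ u3,
    pow_eq_pow_mod _ v3, mul_comm i, mul_comm j]

theorem mem_P {x : Spor.Ly} (hx : x ∈ U ⊔ E) : ∃ i < 3, ∃ j < 3, ∃ n < 243, x = bb i j * ev n := by
  rw [← SetLike.mem_coe, coe_mul_of_left_le_normalizer_right U E U_le] at hx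
  obtain ⟨b, hb, a, ha, rfl⟩ := hx
  obtain ⟨i, j, rfl⟩ := mem_U hb
  obtain ⟨n, hn, rfl⟩ := mem_E ha
  refine ⟨i % 3, Nat.mod_lt _ (by decide), j % 3, Nat.mod_lt _ (by decide), n, hn, ?_⟩
  rw [bb, ← pow_eq_pow_mod _ u3, ← pow_eq_pow_mod _ v3]

theorem ev_comm (m n : ℕ) : ev m * ev n = ev n * ev m := E_props.2 _ (ev_mem m) _ (ev_mem n)

theorem ev_cube (n : ℕ) : ev n * (ev n * ev n) = 1 := by
  rw [← E_props.1 _ (ev_mem n), pow_three]

theorem ev_dd (i j n : ℕ) : ev (dd i j n) * ev n = (bb i j)⁻¹ * ev n * bb i j := by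
  rw [dd, ← ev_mul, ← ev_mul, conj_ev, mul_assoc, mul_assoc, ev_cube, mul_one]

theorem dd_lt (i j n : ℕ) : dd i j n < 243 := by
  rw [dd, ad]
  exact code_lt _

theorem comm_dd {i j n i' j' n' : ℕ} (hi : i < 3) (hj : j < 3) (hn : n < 243) (hi' : i' < 3) (hj' : j' < 3)
    (hn' : n' < 243) (h : bb i' j' * ev n' * (bb i j * ev n) = bb i j * ev n * (bb i' j' * ev n')) :
    dt i j n' = dt i' j' n := by
  rw [← chk_dd i hi j hj n' hn', ← chk_dd i' hi' j' hj' n hn]
  refine ev_inj (dd_lt _ _ _) (dd_lt _ _ _) (mul_right_cancel (b := ev n' * ev n) ?_)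
  rw [← mul_assoc, ev_dd, ev_comm n' n, ← mul_assoc, ev_dd]
  refine mul_left_cancel (a := bb i' j' * bb i j) ?_
  calc _ = bb i' j' * ev n' * (bb i j * ev n) := by group
    _ = bb i j * bb i' j' * ((bb i' j')⁻¹ * ev n * bb i' j' * ev n') := by rw [h]; group
    _ = _ := by rw [U_props.2 _ (bb_mem i j) _ (bb_mem i' j')]

theorem cube_eq (i j n : ℕ) : (bb i j * ev n) ^ 3 = ev (nr i j n) := by
  rw [nr, ← ev_mul, ← ev_mul, ← conj_ev, ← conj_ev, ← one_mul (_ * _ * ev n), ← U_props.1 _ (bb_mem i j),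
    pow_three, pow_three]
  group

theorem pow_mem_E {b a : Spor.Ly} (hb : b ∈ U) (ha : a ∈ E) (k : ℕ) : (b ^ k)⁻¹ * (b * a) ^ k ∈ E := by
  induction k with
  | zero => simp
  | succ k ih =>
    have h1 := mul_mem ((mem_normalizer_iff.1 (U_le (inv_mem hb)) _).1 ih) ha
    convert h1 using 1
    rw [pow_succ, pow_succ]
    group

theorem card_nine {x : Spor.Ly} (hx : x ∈ U ⊔ E) (h3 : x ^ 3 ≠ 1) :
    Nat.card ↥((U ⊔ E) ⊓ centralizer ({x} : Set Spor.Ly)) ≤ 27 := by
  obtain ⟨i, hi, j, hj, n, hn, rfl⟩ := mem_P hx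
  have h1 := (chk_fix i hi j hj).resolve_left fun h => h3 (by
    rw [h.1, h.2]
    simpa [bb] using E_props.1 _ (ev_mem n))
  have h2 : ∀ q : ↥((U ⊔ E) ⊓ centralizer ({bb i j * ev n} : Set Spor.Ly)), ∃ p : ↥(Finset.range 3 ×ˢ
      (Finset.range 243).filter fun m => dt i j m = 0), (q : Spor.Ly) = (bb i j * ev n) ^ p.1.1 * ev p.1.2 := by
    rintro ⟨q, h4, h5⟩
    replace h5 := mem_centralizer_singleton_iff.1 h5
    obtain ⟨i', hi', j', hj', n', hn', rfl⟩ := mem_P h4
    obtain ⟨k, hk, rfl, rfl⟩ := (chk_main i hi j hj i' hi' j' hj').resolve_right fun h => h3 (by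
      rw [cube_eq, chk_nr i hi j hj n hn (h n hn (comm_dd hi hj hn hi' hj' hn' h5 ▸ chk_im i hi j hj n' hn')), ev_zero])
    rw [← bb_pow] at h5
    obtain ⟨m, hm, h6⟩ := mem_E (mul_mem (inv_mem (pow_mem_E (bb_mem i j) (ev_mem n) k)) (ev_mem n'))
    have h7 : bb i j ^ k * ev n' = (bb i j * ev n) ^ k * ev m := by
      rw [← h6]
      group
    refine ⟨⟨(k, m), Finset.mem_product.2 ⟨Finset.mem_range.2 hk, Finset.mem_filter.2 ⟨Finset.mem_range.2 hm, ?_⟩⟩⟩,
      by rw [← h7, bb_pow]⟩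
    rw [← chk_zero n hn]
    refine comm_dd hi hj hn (by decide) (by decide) hm ?_
    rw [h7, mul_assoc, ← mul_assoc (bb i j * ev n), ← pow_succ', pow_succ, mul_assoc (_ ^ k)] at h5
    simpa [bb] using mul_left_cancel h5
  choose f hf using h2
  refine (Nat.card_le_card_of_injective f fun a b hab => Subtype.ext (by rw [hf, hf, hab])).trans ?_
  rw [Nat.card_eq_fintype_card, Fintype.card_coe, Finset.card_product, Finset.card_range]
  omega

/-- **the 3-part of the centralizers of the elements of order 9** -/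
theorem cent_nine {x : Spor.Ly} (hx : orderOf x = 9) : ¬ 3 ^ 4 ∣ cc x := fun h => by
  have := fin
  have := Fact.mk Nat.prime_three
  obtain ⟨T, hT⟩ := Sylow.exists_subgroup_card_pow_prime (G := centralizer ({x} : Set Spor.Ly)) 3 h
  have h1 : Nat.card (T.map (centralizer ({x} : Set Spor.Ly)).subtype) = 3 ^ 4 := by
    rw [card_map_of_injective (subtype_injective _), hT]
  have h2 : IsPGroup 3 (zpowers x) := IsPGroup.of_card (n := 2) (by rw [Nat.card_zpowers, hx]; rfl)
  have h3 := (IsPGroup.of_card h1).to_sup_of_normal_right' h2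
    ((map_subtype_le T).trans ((cent_zpowers x).ge.trans (centralizer_le_normalizer _)))
  obtain ⟨c, hc⟩ := exists_conj_le Nat.prime_three h3 index_P
  have h4 := card_nine (hc x (mem_sup_right (mem_zpowers x))) fun e => by
    rw [conj_pow, conj_eq_one_iff, ← orderOf_dvd_iff_pow_eq_one, hx] at e
    omega
  have h5 : (T.map (centralizer ({x} : Set Spor.Ly)).subtype).map (MulAut.conj c).toMonoidHom ≤
      (U ⊔ E) ⊓ centralizer ({c * x * c⁻¹} : Set Spor.Ly) := by
    rintro _ ⟨a, ha, rfl⟩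
    exact ⟨hc a (mem_sup_left ha), mem_centralizer_singleton_iff.2
      (CpAutLy.McLThree.conj_comm c (mem_centralizer_singleton_iff.1 (map_subtype_le T ha)))⟩
  have h6 := card_le_of_le h5
  rw [card_map_of_injective (MulAut.conj c).injective, h1] at h6
  omega

/-- **an element `y` which is conjugate to `y a`** -/
theorem exists_fuse : ∃ a y c : Spor.Ly, TData a ∧ orderOf y = 3 ∧ y * a = a * y ∧ y ∉ zpowers a ∧
    c * a = a * c ∧ c * y * c⁻¹ = y * a := by
  have := fin
  have := Fact.mk Nat.prime_three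
  obtain ⟨x₀, h₀⟩ := exists_tdata_ly
  obtain ⟨c, hc⟩ := exists_conj_le Nat.prime_three (H := centralizer ({x₀} : Set Spor.Ly)) isPGroup_P
    (not_dvd_index (k := 7) (a := 23669492000000) (b := 1232000) card h₀.mcl.card Nat.prime_three (by decide))
  have h1 := h₀.conj c⁻¹
  generalize ha : c⁻¹ * x₀ * c⁻¹⁻¹ = a at h1
  have h2 : ∀ p ∈ U ⊔ E, p * a = a * p := fun p hp => by
    have h3 := CpAutLy.McLThree.conj_comm c⁻¹ (mem_centralizer_singleton_iff.1 (hc p hp))
    rwa [ha, show c⁻¹ * (c * p * c⁻¹) * c⁻¹⁻¹ = p by group] at h3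
  have h3 : a ∈ U ⊔ E := by
    have h4 := isPGroup_P.to_sup_of_normal_right' (isPGroup_zpowers' Nat.prime_three h1.ord)
      (le_trans (fun p hp => (cent_zpowers a).ge (mem_centralizer_singleton_iff.2 (h2 p hp)))
        (centralizer_le_normalizer _))
    have h5 := (isPGroup_P.toSylow index_P).is_maximal' h4 le_sup_left
    exact (le_sup_right.trans h5.le) (mem_zpowers a)
  obtain ⟨i, hi, j, hj, n, hn, rfl⟩ := mem_P h3
  obtain ⟨rfl, rfl⟩ := (chk_fix i hi j hj).resolve_right fun h => h.2 (by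
    rw [← chk_zero n hn]
    refine comm_dd hi hj hn (by decide) (by decide) (by decide) ?_
    simpa [bb] using h2 _ (mem_sup_right (ev_mem 1)))
  have h4 : bb 0 0 * ev n = ev n := by simp [bb]
  have h5 : bb 1 0 = u := by simp [bb]
  rw [h4] at h1 h2
  have hu : u ∈ U := h5 ▸ bb_mem 1 0
  obtain ⟨m, hm, h6⟩ := chk_cen n hn (by
    refine (comm_dd (by decide) (by decide) (by decide) (by decide) (by decide) hn ?_).trans (chk_zero 0 (by decide))
    rw [h4, h5, ev_zero, mul_one, h2 u (mem_sup_left hu)])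
  refine ⟨ev n, u, ev m, h1, orderOf_eq_prime u3 u_ne_one, h2 u (mem_sup_left hu),
    fun h => u_ne_one (U_inf_E (zpowers_le.2 (ev_mem n) h) hu), ev_comm m n, ?_⟩
  have h7 := ev_dd 1 0 m
  rw [chk_dd 1 (by decide) 0 (by decide) m hm, h6, h5] at h7
  rw [eq_mul_inv_of_mul_eq h7]
  group

end Cfsg.Agent.TAB.Ly
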